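import Cfsg.Agent.H473.Van.Tool
import Cfsg.Agent.H515.KillTwD
import Cfsg.Agent.H437.Iso.TwD4
import Cfsg.Agent.LFourR.TF
import Cfsg.Agent.H92.ExcOrd

/-!
# The row `³D₄(q)` of S4987 (helper473)
-/

set_option autoImplicit false
set_option linter.unusedSectionVars false

namespace Cfsg.Agent.H473.Van

open CoxeterSystem Cfsg.Agent.ChevalleyStructure.CoxeterGeom Cfsg.Agent.Tits.Roots Cfsg.Agent.Tits.Core
  Cfsg.Agent.Tits.RootComb Cfsg.Agent.Nodes.Comb Cfsg.Agent.Nodes.Reps Cfsg.Agent.Nodes.BNOf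
  Cfsg.Agent.Nodes.BNOf.RGD Cfsg.Agent.Nodes.RGDChev Cfsg.Agent.Nodes.RGDFold
open Cfsg.Agent.Nodes.Bruhat Cfsg.Agent.Nodes.LeviDec
open Cfsg Cfsg.Lie Cfsg.Agent.ChevalleyStructure Cfsg.Agent.ChevalleyStructure.TwistedU
open Cfsg.Agent.Nodes.RGDFoldSL
open Cfsg.Agent.ChevalleyStructure.SL2Hom (up lo mem_closure_SL2)
open Cfsg.Agent.BiChar.TwDFour Cfsg.Agent.H115.HC.TwDFour Cfsg.Agent.H115.HC Cfsg.Agent.H515.KillExc
open Cfsg.Agent.H620 Cfsg.Agent.H387.VO Cfsg.Agent.H720.PV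

variable {K : Type} [Field K] [Fintype K] {q : ℕ} {φ : K →+* K}

/-- the fixed field of the node 1 -/
abbrev F1 (φ : K →+* K) := Fx φ ((Nodes.RGDTwNode.D4.rest 1).length + 1)

theorem card_F1 (hK : Fintype.card K = q ^ 3) (hφ : ∀ x, φ x = x ^ q) : Nat.card (F1 φ) = q ^ 3 := by
  rw [Nat.card_congr (Equiv.subtypeUnivEquiv fun t => mem_Fx_three hK hφ t), Nat.card_eq_fintype_card, hK]

theorem Ph_injective (hq : 2 ≤ q) (hK : Fintype.card K = q ^ 3) (hφ : ∀ x, φ x = x ^ q)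
    (hle : twistedD4 K q ≤ D4Fixed.fix φ) : Function.Injective (Ph hφ hle 1) := by
  classical
  have hfin : Finite (F1 φ) := inferInstance
  have := Fintype.ofFinite (F1 φ)
  have hc : 3 < Fintype.card (F1 φ) := by
    rw [← Nat.card_eq_fintype_card, card_F1 hK hφ]
    have : 2 ^ 3 ≤ q ^ 3 := Nat.pow_le_pow_left hq 3
    omega
  rw [injective_iff_map_eq_one]
  intro g hg
  rcases Cfsg.Agent.LFourR.sl_normal hc (Ph hφ hle 1).ker inferInstance with h | h
  · rcases h g hg with h1 | h1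
    · exact h1
    · by_cases h2 : (2 : K) = 0
      · rw [h1]
        have h3 : (-1 : F1 φ) = 1 := by
          apply Subtype.ext
          show (-1 : K) = 1
          linear_combination (-1 : K) * h2
        ext i j
        fin_cases i <;> fin_cases j <;> simp [h3]
      · exfalso
        have h3 : (hS (-1 : F1 φ) : Matrix.SpecialLinearGroup (Fin 2) (F1 φ)) = -1 := by
          apply Subtype.ext
          have h4 : (hS (-1 : F1 φ) : Matrix.SpecialLinearGroup (Fin 2) (F1 φ)).1 = !![-1, 0; 0, (-1)⁻¹] :=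
            coe_hS (neg_ne_zero.2 one_ne_zero)
          rw [h4]
          ext i j
          fin_cases i <;> fin_cases j <;> simp
        have h5 : Ph hφ hle 1 (hS (-1)) = 1 := by rw [h3, ← h1]; exact hg
        exact one_ne_zero (free_two hφ hle h2 (t := 1) (by rw [h5, one_mul, mul_one]))
  · exfalso
    have h4 : Ph hφ hle 1 (up 1) = Ph hφ hle 1 (up 0) := by
      have h5 : ∀ x, Ph hφ hle 1 x = 1 := fun x => by
        have : x ∈ (Ph hφ hle 1).ker := by rw [h]; exact Subgroup.mem_top _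
        exact this
      rw [h5, h5]
    exact one_ne_zero (up_inj hφ hle 1 h4)

theorem coe_Ph_up0 (hφ : ∀ x, φ x = x ^ q) (hle : twistedD4 K q ≤ D4Fixed.fix φ)
    (t : Fx φ ((Nodes.RGDTwNode.D4.rest 0).length + 1)) :
    ((Ph hφ hle 0 (up t) : ↥(twistedD4 K q)) : GL chevD4.Idx K) = Elts.xG Nodes.RGDTwD4.hp.inList 14 (t : K) := by
  have := coe_Phi_up (Nodes.RGDTwD4.foldGrp hφ hle) (Nodes.RGDTwNode.D4.nodeOK 0) (hf φ 0) t
  refine this.trans ?_
  change Elts.xG Nodes.RGDTwD4.hp.inList 14 (t : K) * 1 = _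
  rw [mul_one]

/-- a long root element commuting with the `SL₂(q³)` of the node 1 -/
theorem exists_long (hφ : ∀ x, φ x = x ^ q) (hle : twistedD4 K q ≤ D4Fixed.fix φ) (hK : Fintype.card K = q ^ 3)
    (p : ℕ) [Fact p.Prime] [CharP K p] (s : ℕ) (hs : s = 23 ∨ s = 0) :
    ∃ u : ↥(twistedD4 K q), orderOf u = p ∧
      (u : GL chevD4.Idx K) ∈ rspan (Elts.xG (F := K) Nodes.RGDTwD4.hp.inList) {k | k ∈ [s]} := by
  have : Finite CoxeterMatrix.G₂.Group := Nodes.RGDChev.finite_W Cfsg.Agent.BiChar.GTwo.isType cs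
  have Rg := Nodes.RGDTwD4.rgd (K := K) cs hK hφ p
  set n := Nodes.RGDTwD4.n hφ (K := K) with hn
  have hm : Rp cs Rg.nsys (cs.simple 1 * cs.simple 0) (n 1 * n 0) :=
    (rp_simple cs Rg.nsys 1).mul (rp_simple cs Rg.nsys 0)
  have hord : ∀ {x : ↥(twistedD4 K q)}, orderOf x = p → ∀ g, orderOf (g⁻¹ * x * g) = p := by
    intro x hx g
    rw [← hx]
    have h2 := (MulAut.conj g⁻¹).orderOf_eq x
    rwa [MulAut.conj_apply, inv_inv] at h2
  have hu0 : Ph hφ hle 0 (up 1) ∈ Nodes.RGDTwD4.X φ q (sr 0) := (mem_X hφ hle 0 _).2 ⟨1, rfl⟩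
  have ho : orderOf (Ph hφ hle 0 (up 1)) = p := by
    rw [← Subgroup.orderOf_coe, coe_Ph_up0]
    exact Cfsg.Agent.H92.ExcOrd.orderOf_xG _ (by decide +kernel) p
  rcases hs with rfl | rfl
  · refine ⟨(n 1 * n 0)⁻¹ * Ph hφ hle 0 (up 1) * (n 1 * n 0), hord ho _, ?_⟩
    have h1 := Rg.conj_mem' hm (isRoot_sr cs _ 0) hu0
    rw [rep_inv_zero (by decide)] at h1
    have hu' := Subgroup.mem_subgroupOf.1 h1
    change _ ∈ R chevD4 Nodes.RGDTwD4.hp K Nodes.RGDTwD4.J (D4Fixed.sig φ) ![2, 3] at hu'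
    rw [R_eq cls_hi (by decide +kernel)] at hu'
    exact hu'.1
  · have h0 : (n 0)⁻¹ * Ph hφ hle 0 (up 1) * n 0 ∈ Nodes.RGDTwD4.X φ q (-sr 0) := by
      have h1 := Rg.conj_mem' (rp_simple cs Rg.nsys 0) (isRoot_sr cs _ 0) hu0
      rwa [cs.inv_simple, rep_simple_sr] at h1
    refine ⟨(n 1 * n 0)⁻¹ * ((n 0)⁻¹ * Ph hφ hle 0 (up 1) * n 0) * (n 1 * n 0), hord (hord ho _) _, ?_⟩
    have h1 := Rg.conj_mem' hm (isRoot_sr cs _ 0).neg h0
    rw [map_neg, rep_inv_zero (by decide)] at h1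
    have hu' := Subgroup.mem_subgroupOf.1 h1
    change _ ∈ R chevD4 Nodes.RGDTwD4.hp K Nodes.RGDTwD4.J (D4Fixed.sig φ) (-![2, 3]) at hu'
    rw [R_eq cls_hi' (by decide +kernel)] at hu'
    exact hu'.1

theorem twoVan_twD4 (hq : IsPrimePow q) (hK : Fintype.card K = q ^ 3) {r : ℕ} [hr : Fact r.Prime] [CharP K r]
    {p : ℕ} [hp : Fact p.Prime] (hk : Kill ↥(twistedD4 K q) r) {n : ℕ}
    (hn : n = q ^ 3 - 1 ∨ n = q ^ 3 + 1) (hpn : p ∣ n) (hne : n ≠ p) : TwoVan p ↥(twistedD4 K q) := by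
  classical
  obtain ⟨φ, hφ⟩ := D4Fixed.exists_frob hq hK
  have hle := D4Fixed.twisted_le_fix hK hφ
  have hfin : Finite (F1 φ) := inferInstance
  have := Fintype.ofFinite (F1 φ)
  have hc : Fintype.card (F1 φ) = q ^ 3 := by rw [← Nat.card_eq_fintype_card, card_F1 hK hφ]
  have hch : CharP (F1 φ) r := (RingHom.charP_iff (F1 φ).subtype Subtype.val_injective r).2 inferInstance
  obtain ⟨u, hu, hu'⟩ := exists_long hφ hle hK r 23 (Or.inl rfl)
  exact twoVan_of_sl2 (r := r) hp.out hk (Ph hφ hle 1) (Ph_injective hq.two_le hK hφ hle) hu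
    (fun g => comm_hi hφ hle (s := 23) (by decide) hu' (p := r) hK g) (by rw [hc]; exact hn) hpn hne

/-! ### `³D₄(2)`, `p = 7` -/

section two

theorem order_four [CharP K 2] {u : K} (hu : u ≠ 0) :
    orderOf (Elts.xG (D := chevD4) Nodes.RGDTwD4.hp.inList 14 (1 : K) * Elts.xG Nodes.RGDTwD4.hp.inList 0 u) = 4 := by
  have hD : Elts.InList chevD4 := Nodes.RGDTwD4.hp.inList
  have tab : 14 < chevD4.nroots ∧ 0 < chevD4.nroots ∧ 1 < chevD4.nroots ∧ 0 ≠ 14 ∧ 0 ≠ chevD4.neg 14 ∧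
      chevD4.commTerms 14 0 = [(1, -1, 1, 1)] ∧ Cfsg.Agent.H92.ExcSL2.OrthB chevD4 14 1 = true ∧
      Cfsg.Agent.H92.ExcSL2.OrthB chevD4 0 1 = true := by decide +kernel
  obtain ⟨r14, r0, r1, n1, n2, ht, ho1, ho2⟩ := tab
  set a := Elts.xG hD 14 (1 : K) with ha
  set b := Elts.xG hD 0 u with hb
  set c := Elts.xG hD 1 u with hcc
  have hsq : ∀ (s : ℕ) (t : K), Elts.xG hD s t * Elts.xG hD s t = 1 := fun s t => by
    rw [Elts.xG_add]
    have : t + t = 0 := CharTwo.add_self_eq_zero t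
    rw [this, Elts.xG_zero]
  have h1 : b * a = a * b * c := by
    have h2 := UnipProd.xG_comm hD r14 r0 n1 n2 (1 : K) u
    unfold ChevalleyDatum.commWord at h2
    rw [ht] at h2
    simp only [List.map_cons, List.map_nil, Elts.wordG_cons, Elts.wordG_nil, mul_one, pow_one, Int.cast_neg,
      Int.cast_one, _root_.neg_neg, one_mul, mul_neg] at h2
    exact h2
  have hac : Commute a c := Cfsg.Agent.H92.ExcSL2.xG_commute hD r14 r1 ho1 1 u
  have hbc : Commute b c := Cfsg.Agent.H92.ExcSL2.xG_commute hD r0 r1 ho2 u u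
  have hc1 : c ≠ 1 := by
    intro h
    exact hu ((Elts.xG_eq_one_iff hD r1 u).1 h)
  have h2 : (a * b) ^ 2 = c := by
    calc (a * b) ^ 2 = a * (b * a) * b := by rw [pow_two]; group
      _ = a * (a * b * c) * b := by rw [h1]
      _ = (a * a) * b * (c * b) := by group
      _ = (a * a) * (b * b) * c := by rw [← hbc.eq]; group
      _ = c := by rw [hsq, hsq, one_mul, one_mul]
  have : Fact (Nat.Prime 2) := ⟨Nat.prime_two⟩
  refine orderOf_eq_prime_pow (p := 2) (n := 1) ?_ ?_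
  · rw [pow_one, h2]
    exact hc1
  · rw [show (2 : ℕ) ^ (1 + 1) = 2 * 2 by norm_num, pow_mul, h2, pow_two]
    exact hsq 1 u

theorem mem_rspan_single {s : ℕ} {x : GL chevD4.Idx K}
    (h : x ∈ rspan (Elts.xG (F := K) (D := chevD4) Nodes.RGDTwD4.hp.inList) {k | k ∈ [s]}) :
    ∃ t : K, x = Elts.xG Nodes.RGDTwD4.hp.inList s t := by
  refine Subgroup.closure_induction (p := fun x _ => ∃ t : K, x = Elts.xG Nodes.RGDTwD4.hp.inList s t)
    ?_ ⟨0, (Elts.xG_zero _ _).symm⟩ ?_ ?_ h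
  · rintro _ ⟨r, hr, t, rfl⟩
    have hr : r = s := by simpa using hr
    exact ⟨t, by rw [hr]⟩
  · rintro _ _ _ _ ⟨t, rfl⟩ ⟨u, rfl⟩
    exact ⟨t + u, Elts.xG_add _ _ _ _⟩
  · rintro _ _ ⟨t, rfl⟩
    exact ⟨-t, Elts.xG_inv _ _ _⟩

theorem twoVan_twD4_two (hK : Fintype.card K = 2 ^ 3) (hk : Kill ↥(twistedD4 K 2) 2) :
    TwoVan 7 ↥(twistedD4 K 2) := by
  classical
  have hq : IsPrimePow 2 := Nat.prime_two.isPrimePow
  have h2K : CharP K 2 := by
    have : Fact (Nat.Prime 2) := ⟨Nat.prime_two⟩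
    exact charP_of_card_eq_prime_pow hK
  have : Fact (Nat.Prime 2) := ⟨Nat.prime_two⟩
  obtain ⟨φ, hφ⟩ := D4Fixed.exists_frob hq hK
  have hle := D4Fixed.twisted_le_fix hK hφ
  have hfin : Finite (F1 φ) := inferInstance
  have := Fintype.ofFinite (F1 φ)
  have hc : Fintype.card (F1 φ) = 8 := by rw [← Nat.card_eq_fintype_card, card_F1 hK hφ]; norm_num
  obtain ⟨c, hc0, hc1⟩ : ∃ c : F1 φ, c ≠ 0 ∧ c ≠ 1 := by
    by_contra h
    push Not at h
    have h1 : (Finset.univ : Finset (F1 φ)) ⊆ {0, 1} := fun x _ => by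
      by_cases hx : x = 0
      · simp [hx]
      · simp [h x hx]
    have h2 := Finset.card_le_card h1
    have h3 : ({0, 1} : Finset (F1 φ)).card ≤ 2 := Finset.card_le_two
    rw [Finset.card_univ, hc] at h2
    omega
  have hc7 : c ^ 7 = 1 := by
    have := FiniteField.pow_card_sub_one_eq_one c hc0
    rwa [hc] at this
  have hdg : BiChar.GTwo.dg (Units.mk0 c hc0) = hS c := BiChar.GTwo.dg_eq _
  have ho : orderOf (hS c : Matrix.SpecialLinearGroup (Fin 2) (F1 φ)) = 7 := by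
    have : Fact (Nat.Prime 7) := ⟨by norm_num⟩
    apply orderOf_eq_prime
    · rw [← hdg, ← map_pow]
      have : (Units.mk0 c hc0) ^ 7 = 1 := Units.ext (by simpa using hc7)
      rw [this, map_one]
    · intro h
      apply hc1
      have h4 : (hS c : Matrix.SpecialLinearGroup (Fin 2) (F1 φ)).1 = !![c, 0; 0, c⁻¹] := coe_hS hc0
      have h5 := congrFun (congrFun h4 0) 0
      rw [h] at h5
      simpa using h5.symm
  set z := Ph hφ hle 1 (hS c) with hz
  have hzo : orderOf z = 7 := by rw [hz, orderOf_injective _ (Ph_injective le_rfl hK hφ hle), ho]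
  obtain ⟨u, hu, hu'⟩ := exists_long hφ hle hK 2 0 (Or.inr rfl)
  have hzu : Commute z u := comm_hi hφ hle (s := 0) (by decide) hu' (p := 2) hK _
  obtain ⟨t, ht⟩ := mem_rspan_single hu'
  have ht0 : t ≠ 0 := by
    rintro rfl
    rw [Elts.xG_zero] at ht
    have h1 : u = 1 := Subtype.ext ht
    rw [h1, orderOf_one] at hu
    omega
  set a := Ph hφ hle 0 (up 1) with ha
  have hab : orderOf (a * u) = 4 := by
    rw [← Subgroup.orderOf_coe, Subgroup.coe_mul, ha, coe_Ph_up0, ht]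
    exact order_four ht0
  have hza : Commute z a := by
    have hD : Elts.InList chevD4 := Nodes.RGDTwD4.hp.inList
    have tab : (chevD4.simple 0 = 18 ∧ chevD4.simple 2 = 13 ∧ chevD4.simple 3 = 12) ∧
        (chevD4.cartan 0 14 = -1 ∧ chevD4.cartan 2 14 = -1 ∧ chevD4.cartan 3 14 = -1) ∧
        (0 < chevD4.rank ∧ 2 < chevD4.rank ∧ 3 < chevD4.rank ∧ 14 < chevD4.nroots) := by decide +kernel
    obtain ⟨⟨s0, s2, s3⟩, ⟨c0, c2, c3⟩, r0, r2, r3, rn⟩ := tab
    have hcK : (c : K) ≠ 0 := fun h => hc0 (Subtype.ext h)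
    have hφc : ∀ x : K, φ x = x ^ 2 := hφ
    have g0 : ∀ {x : K}, x ≠ 0 → φ x ≠ 0 := fun {x} hx => by rw [hφc]; exact pow_ne_zero 2 hx
    have a0 : ∀ {x : K}, x ≠ 0 → ∀ v : K, Elts.hG hD 18 x * Elts.xG hD 14 v =
        Elts.xG hD 14 (x⁻¹ * v) * Elts.hG hD 18 x := by
      intro x hx v
      have := Cfsg.Agent.ETable.Exc.hG_xG hD r0 rn hx v
      rwa [s0, c0, zpow_neg, zpow_one] at this
    have a2 : ∀ {x : K}, x ≠ 0 → ∀ v : K, Elts.hG hD 13 x * Elts.xG hD 14 v =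
        Elts.xG hD 14 (x⁻¹ * v) * Elts.hG hD 13 x := by
      intro x hx v
      have := Cfsg.Agent.ETable.Exc.hG_xG hD r2 rn hx v
      rwa [s2, c2, zpow_neg, zpow_one] at this
    have a3 : ∀ {x : K}, x ≠ 0 → ∀ v : K, Elts.hG hD 12 x * Elts.xG hD 14 v =
        Elts.xG hD 14 (x⁻¹ * v) * Elts.hG hD 12 x := by
      intro x hx v
      have := Cfsg.Agent.ETable.Exc.hG_xG hD r3 rn hx v
      rwa [s3, c3, zpow_neg, zpow_one] at this
    apply Subtype.ext
    show ((z : ↥(twistedD4 K 2)) : GL chevD4.Idx K) * (a : ↥(twistedD4 K 2)) =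
      ((a : ↥(twistedD4 K 2)) : GL chevD4.Idx K) * (z : ↥(twistedD4 K 2))
    rw [ha, coe_Ph_up0, hz, coe_hS1]
    have e1 : ((c : K))⁻¹ * ((φ (c : K))⁻¹ * ((φ (φ (c : K)))⁻¹ * 1)) = 1 := by
      have h7 : (c : K) ^ 7 = 1 := congrArg Subtype.val hc7
      rw [hφc, hφc]
      have h8 : (c : K) * ((c : K) ^ 2 * ((c : K) ^ 2) ^ 2) = 1 := by rw [← h7]; ring
      rw [mul_one, ← mul_inv, ← mul_inv, h8, inv_one]
    show Elts.hG hD 18 (c : K) * (Elts.hG hD 13 (φ (c : K)) * (Elts.hG hD 12 (φ (φ (c : K))) * 1)) *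
      Elts.xG hD 14 ((1 : Fx φ ((Nodes.RGDTwNode.D4.rest 0).length + 1)) : K) =
      Elts.xG hD 14 ((1 : Fx φ ((Nodes.RGDTwNode.D4.rest 0).length + 1)) : K) *
      (Elts.hG hD 18 (c : K) * (Elts.hG hD 13 (φ (c : K)) * (Elts.hG hD 12 (φ (φ (c : K))) * 1)))
    have e0 : ((1 : Fx φ ((Nodes.RGDTwNode.D4.rest 0).length + 1)) : K) = 1 := rfl
    rw [e0, mul_one, mul_assoc, mul_assoc, a3 (g0 (g0 hcK)), ← mul_assoc (Elts.hG hD 13 _), a2 (g0 hcK), mul_assoc,
      ← mul_assoc (Elts.hG hD 18 _), a0 hcK, mul_assoc, e1]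
  have hzau : Commute z (a * u) := hza.mul_right hzu
  have o1 : orderOf (z * (a * u)) = 28 := by
    rw [hzau.orderOf_mul_eq_mul_orderOf_of_coprime (by rw [hzo, hab]; norm_num), hzo, hab]
  have o2 : orderOf (z * u) = 14 := by
    rw [hzu.orderOf_mul_eq_mul_orderOf_of_coprime (by rw [hzo, hu]; norm_num), hzo, hu]
  exact twoVan_of_kill hk (x := z * (a * u)) (y := z * u) (by rw [o1]; norm_num) (by rw [o1]; norm_num)
    (by rw [o2]; norm_num) (by rw [o2]; norm_num) (by rw [o1, o2]; norm_num)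

end two

/-- **The row `³D₄(q)`.** -/
theorem row_twD4' (hq : IsPrimePow q) (hK : Fintype.card K = q ^ 3) {r : ℕ} [hr : Fact r.Prime] [CharP K r]
    {p : ℕ} [hp : Fact p.Prime] (hp5 : 5 ≤ p) (hpr : p ≠ r) (hk : Kill ↥(twistedD4 K q) r)
    (hd : p ∣ Nat.card ↥(twistedD4 K q)) : Row p ↥(twistedD4 K q) := by
  have := finite_twD4 (K := K) q
  have hcard := Cfsg.Agent.S1067.result hq hK
  have hq2 : 2 ≤ q := hq.two_le
  have hpq : ¬ p ∣ q := by
    intro h
    obtain ⟨f, -, hF⟩ := FiniteField.card K r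
    have h1 : p ∣ Fintype.card K := by rw [hK]; exact h.trans (dvd_pow_self q (by norm_num))
    rw [hF] at h1
    exact hpr ((Nat.prime_dvd_prime_iff_eq hp.out hr.out).1 (hp.out.dvd_of_dvd_pow h1))
  have e6 : q ^ 6 - 1 = (q ^ 3 + 1) * (q ^ 3 - 1) := by
    have := Nat.sq_sub_sq (q ^ 3) 1
    rw [← pow_mul] at this
    simpa using this
  have e62 : q ^ 6 - 1 = (q ^ 2 - 1) * (q ^ 4 + q ^ 2 + 1) := by
    obtain ⟨m, hm⟩ := Nat.exists_eq_add_of_le (show 1 ≤ q ^ 2 from Nat.one_le_pow _ _ (by omega))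
    have e : q ^ 6 = (1 + m) ^ 3 := by rw [← hm, ← pow_mul]
    have e' : q ^ 4 = (1 + m) ^ 2 := by rw [← hm, ← pow_mul]
    rw [e, e', hm, Nat.add_sub_cancel_left]
    exact Nat.sub_eq_of_eq_add (by ring)
  have e8 : q ^ 8 + q ^ 4 + 1 = (q ^ 4 - q ^ 2 + 1) * (q ^ 4 + q ^ 2 + 1) := by
    have h1 : q ^ 2 ≤ q ^ 4 := Nat.pow_le_pow_right (by omega) (by norm_num)
    obtain ⟨m, hm⟩ := Nat.exists_eq_add_of_le h1
    have h2 : q ^ 4 - q ^ 2 = m := by omega
    have h3 : q ^ 8 = (q ^ 4) ^ 2 := by ring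
    have h4 : (q ^ 2) ^ 2 = q ^ 4 := by ring
    rw [h2, h3]
    have h5 : m + 1 + q ^ 2 = q ^ 4 + 1 := by omega
    nlinarith [h4, hm]
  by_cases h6 : p ∣ q ^ 6 - 1
  · obtain ⟨n, hn, hpn⟩ : ∃ n, (n = q ^ 3 - 1 ∨ n = q ^ 3 + 1) ∧ p ∣ n := by
      rw [e6] at h6
      rcases (Nat.Prime.dvd_mul hp.out).1 h6 with h | h
      · exact ⟨_, Or.inr rfl, h⟩
      · exact ⟨_, Or.inl rfl, h⟩
    by_cases hne : n = p
    · rcases hn with hn | hn
      · -- `q = 2`, `p = 7`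
        have h1 : q ^ 3 - 1 = (q - 1) * (q ^ 2 + q + 1) := by
          obtain ⟨m, hm⟩ := Nat.exists_eq_add_of_le (show 1 ≤ q by omega)
          rw [hm, Nat.add_sub_cancel_left]
          exact Nat.sub_eq_of_eq_add (by ring)
        have h2 : (q - 1) ∣ p := by rw [← hne, hn, h1]; exact dvd_mul_right _ _
        rcases (Nat.dvd_prime hp.out).1 h2 with h3 | h3
        · have hq' : q = 2 := by omega
          subst hq'
          have hp7 : p = 7 := by rw [← hne, hn]; norm_num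
          subst hp7
          have hr2 : r = 2 := by
            obtain ⟨f, -, hF⟩ := FiniteField.card K r
            rw [hK] at hF
            have h4 : r ∣ 2 ^ 3 := by rw [hF]; exact dvd_pow_self r f.ne_zero
            exact (Nat.prime_dvd_prime_iff_eq hr.out Nat.prime_two).1 (hr.out.dvd_of_dvd_pow h4)
          subst hr2
          exact Or.inr (Or.inr (twoVan_twD4_two hK hk))
        · exfalso
          rw [hn, h1, ← h3] at hne
          have h4 : 0 < q - 1 := by omega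
          have h5 : q ^ 2 + q + 1 = 1 := Nat.eq_of_mul_eq_mul_left h4 (by rw [hne, mul_one])
          nlinarith
      · exfalso
        have h1 : q ^ 3 + 1 = (q + 1) * (q ^ 2 - q + 1) := by
          have h2 : q ≤ q ^ 2 := by nlinarith
          obtain ⟨m, hm⟩ := Nat.exists_eq_add_of_le h2
          have h3 : q ^ 2 - q = m := by omega
          rw [h3]
          have h4 : q ^ 3 = q * q ^ 2 := by ring
          rw [h4]
          nlinarith [hm]
        have h2 : (q + 1) ∣ p := by rw [← hne, hn, h1]; exact dvd_mul_right _ _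
        rcases (Nat.dvd_prime hp.out).1 h2 with h3 | h3
        · omega
        · rw [hn, h1, ← h3] at hne
          have h5 : q ^ 2 - q + 1 = 1 := Nat.eq_of_mul_eq_mul_left (show 0 < q + 1 by omega) (by rw [hne, mul_one])
          have h6 : q * 2 ≤ q * q := Nat.mul_le_mul_left q hq2
          rw [← pow_two] at h6
          omega
    · exact Or.inr (Or.inr (twoVan_twD4 hq hK (r := r) hk hn hpn hne))
  · have h4 : ¬ p ∣ q ^ 4 + q ^ 2 + 1 := fun h => h6 (e62 ▸ h.mul_left _)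
    have h2' : ¬ p ∣ q ^ 2 - 1 := fun h => h6 (e62 ▸ h.mul_right _)
    have hcop : ∀ {a : ℕ}, ¬ p ∣ a → ∀ k, Nat.Coprime (p ^ k) a := fun {a} h k =>
      Nat.Coprime.pow_left k ((hp.out.coprime_iff_not_dvd).2 h)
    have hdvd : ∀ k, p ^ k ∣ Nat.card ↥(twistedD4 K q) → p ^ k ∣ q ^ 8 + q ^ 4 + 1 := by
      intro k hk
      rw [hcard] at hk
      refine (Nat.Coprime.dvd_mul_left ?_).1 hk
      refine Nat.Coprime.mul_right (Nat.Coprime.mul_right ?_ (hcop h2' k)) (hcop h6 k)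
      exact (hcop hpq k).pow_right 12
    obtain ⟨P, χ, hP, hχ, -⟩ := exists_chi_twD4 hq hK
    refine row_of_hasDZ ?_ hd fun hsq => ?_
    · refine hasDZ_of_degree χ.2 (Cfsg.Agent.Blocks.Basic.irr_one_eq_charDegree χ.2) ?_
      refine Dvd.dvd.trans ?_ hχ
      rw [hP]
      exact (hdvd _ (Nat.ordProj_dvd _ _)).mul_left _
    · obtain ⟨x, hx⟩ := Cfsg.Agent.H437.Iso.d4_order12 hq hK
      refine ⟨x, ?_⟩
      rw [hx]
      have h7 := hdvd 2 hsq
      rw [e8] at h7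
      exact (hcop h4 2).dvd_of_dvd_mul_right h7

end Cfsg.Agent.H473.Van
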