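import Cfsg.Agent.H473.Van.GTwo
import Cfsg.Agent.H473.Van.TwD
import Cfsg.Agent.H620.RowClass

/-!
# S4987: the rows `G₂(q)` and `³D₄(q)` (helper473, task 3063)
-/

set_option autoImplicit false

namespace Cfsg.Agent.H473.Van

open Cfsg Cfsg.Lie Cfsg.Agent.H620 Cfsg.Agent.H387.VO

universe u

/-- **S4987, the row of `G₂(q)`.** -/
theorem row_g2 {S : Type u} [Group S] [Finite S] [IsSimpleGroup S] {r : ℕ} (hr : r.Prime)
    {F : Type} [Field F] [Fintype F] [hc : CharP F r] (h3 : 3 ≤ Fintype.card F) (e : S ≃* ↥(chevG2.group F))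
    {p : ℕ} [Fact p.Prime] (hp : 5 ≤ p) (hpr : p ≠ r) (hd : p ∣ Nat.card S) : Row p S := by
  have : Fact r.Prime := ⟨hr⟩
  have : Finite ↥(chevG2.group F) := Finite.of_equiv S e.toEquiv
  have hk : Kill S r := RowClass.kill_of_lie hr (by
    right; right; right; right; right; right; left
    exact ⟨F, inferInstance, inferInstance, hc, Or.inl ⟨h3, ⟨e⟩⟩⟩)
  rw [Nat.card_congr e.toEquiv] at hd
  exact (row_g2' h3 hp hpr (hk.mulEquiv e) hd).mulEquiv e.symm

/-- **S4987, the row of `³D₄(q)`.** -/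
theorem row_3d4 {S : Type u} [Group S] [Finite S] [IsSimpleGroup S] {r : ℕ} (hr : r.Prime)
    {K : Type} [Field K] [Fintype K] [hc : CharP K r] {q : ℕ} (hq : IsPrimePow q) (hK : Fintype.card K = q ^ 3)
    (e : S ≃* ↥(twistedD4 K q)) {p : ℕ} [Fact p.Prime] (hp : 5 ≤ p) (hpr : p ≠ r) (hd : p ∣ Nat.card S) :
    Row p S := by
  have : Fact r.Prime := ⟨hr⟩
  have : Finite ↥(twistedD4 K q) := Finite.of_equiv S e.toEquiv
  have hk : Kill S r := RowClass.kill_of_lie hr (by
    right; right; right; right; right; right; right; left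
    exact ⟨K, inferInstance, inferInstance, hc, q, hq, Or.inr ⟨hK, ⟨e⟩⟩⟩)
  rw [Nat.card_congr e.toEquiv] at hd
  exact (row_twD4' hq hK hp hpr (hk.mulEquiv e) hd).mulEquiv e.symm

end Cfsg.Agent.H473.Van
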