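import Cfsg.Agent.H86.Pair
import Cfsg.Agent.H610.ChevRegular
import Cfsg.Agent.S2121
import Cfsg.Agent.H967.FaChev
import Cfsg.Agent.H92.ExcOrd

/-!
# Long and short root elements (helper473, S4987)

* `not_conj_long_short` : a root element of a short fundamental root is not conjugate to a long root element;
* `exists_conj_field_g2` : automorphisms of `G₂(q)`, `q` not a power of 3;
* `g2_long_short` : no automorphism of `G₂(2^f)` moves a long root element to a short root element.
-/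

set_option autoImplicit false

namespace Cfsg.Agent.H473.Van

open Cfsg Cfsg.Lie Cfsg.Agent.ChevalleyStructure Cfsg.Agent.ChevalleyStructure.RootVecTab
  Cfsg.Agent.ChevalleyStructure.RootVec Cfsg.Agent.ChevalleyStructure.Elts Cfsg.Agent.H86.Par
  Cfsg.Agent.H86.Lev Cfsg.Agent.H610.ChevRegular

universe u

variable {D : ChevalleyDatum} {F : Type u} [Field F]

theorem not_conj_long_short (hD : InList D) {isL : ℕ → Bool} (H : HiP D isL) {i : ℕ} (hi : i < D.rank)
    (hs : isL (D.simple i) = false) {g : GL D.Idx F} (hg : g ∈ D.group F) {t₀ : F} (ht₀ : t₀ ≠ 0) :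
    g⁻¹ * xG hD (top D) 1 * g ≠ xG hD (D.simple i) t₀ := by
  intro h
  obtain ⟨β, hβ, hL, t, ht, u, hu, e⟩ := conj_form hD H hg
  rw [h] at e
  have e' : xG hD β t = u * xG hD (D.simple i) t₀ * u⁻¹ := by rw [e]; group
  have hC := checked (D := D) hD
  have hne : β ≠ D.simple i := by
    rintro rfl
    rw [hs] at hL
    exact Bool.noConfusion hL
  by_cases hpos : D.IsPosRoot β
  · have c1 : Comp hD i (xG hD β t) 0 := comp_root hD hpos hne t
    obtain ⟨s, hs'⟩ := exists_comp hD hi hu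
    have c2 := comp_mul hD hi (comp_mul hD hi hs' (comp_simple hD i t₀)) (comp_inv hD hi hs')
    rw [← e'] at c2
    have h3 := comp_unique hD hi c1 c2
    apply ht₀
    linear_combination -h3
  · have h4 : xG hD β t ∈ D.borelSubgroup F ⊓ D.negUnipotent F := by
      refine Subgroup.mem_inf.2 ⟨?_, ?_⟩
      · rw [e']
        refine mul_mem (mul_mem (Subgroup.mem_sup_left hu) (Subgroup.mem_sup_left ?_))
          (inv_mem (Subgroup.mem_sup_left hu))
        exact xG_mem_posUnipotent hD (simple_pos hC hi) _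
      · exact xG_mem_negUnipotent hD ((pos_or_neg hC hβ).resolve_left hpos) _
    rw [(Cfsg.Agent.S1037.result (F := F) D hD).1, Subgroup.mem_bot, xG_eq_one_iff hD hβ] at h4
    exact ht h4

section g2

open Cfsg.Agent.H967.FaBase Cfsg.Agent.H967.CopMat Cfsg.Agent.H967.CopChev Cfsg.Agent.Schreier.ChevLocal Cfsg.Agent.H70.ChevFix Cfsg.Agent.H70.ChevField
  Cfsg.Agent.H70.AutFix Cfsg.Agent.ChevalleyStructure.NConj Cfsg.Agent.ChevalleyStructure.BNChev Cfsg.Agent.S1042
  Cfsg.Agent.H70.ChevTab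

variable {F : Type} [Field F] [Fintype F]

theorem exists_conj_field_g2 {r : ℕ} [hr : Fact r.Prime] [CharP F r] (hr3 : r ≠ 3) (h3 : 3 ≤ Fintype.card F)
    (ψ : MulAut ↥(chevG2.group F)) :
    ∃ (g : ↥(chevG2.group F)) (τ : F ≃+* F), ψ = MulAut.conj g * fieldAut (stab_group chevG2 F) τ := by
  let cls : (F ≃+* F) →* Cfsg.Out ↥(chevG2.group F) :=
    (QuotientGroup.mk' (Cfsg.Inn ↥(chevG2.group F))).comp (fieldAut (stab_group chevG2 F))
  have hinj : Function.Injective cls := by
    rw [injective_iff_map_eq_one]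
    intro τ hτ
    by_contra h
    exact not_inner (by simp) τ h ((QuotientGroup.eq_one_iff _).1 hτ)
  obtain ⟨n, -, hF⟩ := FiniteField.card F r
  have hO := S2121.result r n hF (by rw [← hF]; exact h3)
  rw [if_neg hr3] at hO
  have hfin : Finite (F ≃+* F) := Finite.of_injective (fun f : F ≃+* F => (f : F → F)) DFunLike.coe_injective
  have hc : Nat.card (F ≃+* F) = n := Cfsg.Agent.Lib.FieldAutCard.card_ringAut n.pos hF
  have hfO : Finite (Cfsg.Out ↥(chevG2.group F)) := Nat.finite_of_card_ne_zero (by rw [hO]; exact n.pos.ne')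
  have hsur := ((Nat.bijective_iff_injective_and_card cls).2 ⟨hinj, by rw [hc, hO]⟩).2
  obtain ⟨τ, hτ⟩ := hsur (QuotientGroup.mk' _ ψ)
  have h1 : (fieldAut (stab_group chevG2 F) τ)⁻¹ * ψ ∈ Cfsg.Inn ↥(chevG2.group F) := QuotientGroup.eq.1 hτ
  have h2 : ψ * (fieldAut (stab_group chevG2 F) τ)⁻¹ ∈ Cfsg.Inn ↥(chevG2.group F) := by
    have hn : (Cfsg.Inn ↥(chevG2.group F)).Normal := inferInstance
    exact hn.mem_comm h1
  obtain ⟨g, hg⟩ := h2
  exact ⟨g, τ, by rw [hg, inv_mul_cancel_right]⟩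

theorem g2_long_short {r : ℕ} [hr : Fact r.Prime] [CharP F r] (hr3 : r ≠ 3) (h3 : 3 ≤ Fintype.card F)
    (hD : InList chevG2) (α : MulAut ↥(chevG2.group F)) : α (xe hD 11 1) ≠ xe hD 7 1 := by
  obtain ⟨g, τ, rfl⟩ := exists_conj_field_g2 (r := r) hr3 h3 α
  intro h
  rw [MulAut.mul_apply, fieldAut_xe, map_one, MulAut.conj_apply] at h
  have h1 := congrArg Subtype.val h
  refine not_conj_long_short (F := F) hD hpG2 (i := 0) (by decide) (by decide)
    (g := ((g⁻¹ : ↥(chevG2.group F)) : GL chevG2.Idx F)) (g⁻¹ : ↥(chevG2.group F)).2 (t₀ := 1) one_ne_zero ?_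
  refine Eq.trans ?_ h1
  rw [Subgroup.coe_inv, inv_inv]
  rfl

end g2

end Cfsg.Agent.H473.Van
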