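import Cfsg.Agent.H473.Van.Tool
import Cfsg.Agent.H473.Van.LongShort
import Cfsg.Agent.H371.Core.Fam
import Cfsg.Agent.H934.Two.TorDZ

/-!
# The row `G₂(q)` of S4987 (helper473)
-/

set_option autoImplicit false

namespace Cfsg.Agent.H473.Van

open Cfsg Cfsg.Lie Cfsg.Agent.H620 Cfsg.Agent.H387.VO Cfsg.Agent.H720.PV Cfsg.Agent.H92.ExcSL2
open Cfsg.Agent.ChevalleyStructure Cfsg.Agent.ChevalleyStructure.Elts Cfsg.Agent.ChevalleyStructure.SL2Hom
open Cfsg.Agent.H378 Cfsg.Agent.H378.SmallTor Cfsg.Agent.H378.AdjTab Cfsg.Agent.H378.ExcAdj Cfsg.Agent.H371.CycEval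
open Cfsg.Agent.H371.Core

variable {F : Type} [Field F] [Fintype F]

theorem orderOf_xe {D : ChevalleyDatum} (hD : InList D) {s : ℕ} (hs : s < D.nroots) (r : ℕ) [Fact r.Prime] [CharP F r] :
    orderOf (H70.ChevFix.xe (F := F) hD s 1) = r := by
  rw [← Subgroup.orderOf_coe]
  exact Cfsg.Agent.H92.ExcOrd.orderOf_xG hD hs r

theorem commute_xe {D : ChevalleyDatum} (hD : InList D) {s t : ℕ} (hs : s < D.nroots) (ht : t < D.nroots)
    (h : Orth4 D s t = true) (g : Matrix.SpecialLinearGroup (Fin 2) F) :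
    Commute (ph hD hs g) (H70.ChevFix.xe hD t 1) := by
  have h1 := ph_commute hD hs ht h g (up 1)
  have h2 : ph hD ht (up (1 : F)) = H70.ChevFix.xe hD t 1 := Subtype.ext (phi_up hD ht 1)
  rwa [h2] at h1

theorem twoVan_g2 (h3 : 3 ≤ Fintype.card F) {r : ℕ} [hr : Fact r.Prime] [CharP F r] {p : ℕ} [hp : Fact p.Prime]
    (hp5 : 5 ≤ p) (hk : Kill ↥(chevG2.group F) r) (hd : p ∣ Fintype.card F ^ 2 - 1) :
    TwoVan p ↥(chevG2.group F) := by
  have hD : InList chevG2 := by simp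
  have h7 : (7 : ℕ) < chevG2.nroots := by decide
  have h11 : (11 : ℕ) < chevG2.nroots := by decide
  obtain ⟨n, hn, hpn⟩ : ∃ n, (n = Fintype.card F - 1 ∨ n = Fintype.card F + 1) ∧ p ∣ n := by
    have e : Fintype.card F ^ 2 - 1 = (Fintype.card F + 1) * (Fintype.card F - 1) := by
      have := Nat.sq_sub_sq (Fintype.card F) 1
      simpa using this
    rw [e] at hd
    rcases (Nat.Prime.dvd_mul hp.out).1 hd with h | h
    · exact ⟨_, Or.inr rfl, h⟩
    · exact ⟨_, Or.inl rfl, h⟩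
  by_cases hne : n = p
  · -- `q` is even
    have hr2 : r = 2 := by
      by_contra hr2
      obtain ⟨f, -, hF⟩ := FiniteField.card F r
      have h1 : Odd (Fintype.card F) := by
        rw [hF]
        exact (hr.out.odd_of_ne_two hr2).pow
      obtain ⟨m, hm⟩ := h1
      have h2 : 2 ∣ p := by
        rw [← hne]
        rcases hn with rfl | rfl
        · exact ⟨m, by omega⟩
        · exact ⟨m + 1, by omega⟩
      have := (Nat.prime_dvd_prime_iff_eq Nat.prime_two hp.out).1 h2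
      omega
    subst hr2
    have hodd : Odd p := hp.out.odd_of_ne_two (by omega)
    obtain ⟨s, hs⟩ : ∃ s : Matrix.SpecialLinearGroup (Fin 2) F, orderOf s = p := by
      rw [← hne]
      rcases hn with rfl | rfl
      · exact H710.SLTwo.exists_order_sub_one F
      · exact H710.SLTwo.exists_order_add_one F
    have o7 : orderOf (ph hD h7 s) = p := by rw [orderOf_ph hD h7 s (by rw [hs]; exact hodd), hs]
    have o11 : orderOf (ph hD h11 s) = p := by rw [orderOf_ph hD h11 s (by rw [hs]; exact hodd), hs]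
    have c1 := commute_xe hD h7 h11 (by decide +kernel) s
    have c2 := commute_xe hD h11 h7 (by decide +kernel) s
    have hcop : Nat.Coprime p 2 := hodd.coprime_two_right
    have e1 : orderOf (ph hD h7 s * H70.ChevFix.xe hD 11 1) = p * 2 := by
      rw [c1.orderOf_mul_eq_mul_orderOf_of_coprime (by rw [o7, orderOf_xe hD h11 2]; exact hcop), o7,
        orderOf_xe hD h11 2]
    have e2 : orderOf (ph hD h11 s * H70.ChevFix.xe hD 7 1) = p * 2 := by
      rw [c2.orderOf_mul_eq_mul_orderOf_of_coprime (by rw [o11, orderOf_xe hD h7 2]; exact hcop), o11,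
        orderOf_xe hD h7 2]
    refine twoVan_of_kill' hk (x := ph hD h7 s * H70.ChevFix.xe hD 11 1)
      (y := ph hD h11 s * H70.ChevFix.xe hD 7 1) (by rw [e1]; exact dvd_mul_right _ _)
      (by rw [e1]; exact dvd_mul_left _ _) (by rw [e2]; exact dvd_mul_right _ _)
      (by rw [e2]; exact dvd_mul_left _ _) fun α hα => ?_
    have hpow : ∀ {G : Type} [Group G] {a u : G}, Commute a u → orderOf a = p → orderOf u = 2 →
        (a * u) ^ p = u := by
      intro G _ a u hc ha hu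
      rw [hc.mul_pow, ← ha, pow_orderOf_eq_one, one_mul, ha]
      obtain ⟨m, hm⟩ := hodd
      rw [hm, pow_succ, pow_mul, ← hu, pow_orderOf_eq_one, one_pow, one_mul]
    have h4 := congrArg (fun z => z ^ p) hα
    simp only [← map_pow] at h4
    rw [hpow c1 o7 (orderOf_xe hD h11 2), hpow c2 o11 (orderOf_xe hD h7 2)] at h4
    exact g2_long_short (r := 2) (by norm_num) h3 hD α h4
  · refine twoVan_of_sl2 (r := r) hp.out hk (ph hD h7)
      (ph_injective hD (i := 0) (s := 6) (by decide) (by decide) (by decide) (by decide))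
      (orderOf_xe hD h11 r) (fun g => commute_xe hD h7 h11 (by decide +kernel) g) hn hpn hne

/-- the torus rows -/
theorem row_tor {m : ℕ} {p : ℕ} [hp : Fact p.Prime] (hp5 : 5 ≤ p) (r : ℕ) [hr : Fact r.Prime] [CharP F r]
    (hpr : p ≠ r) (hp2 : ¬ p ∣ Fintype.card F ^ 2 - 1) (hd : p ∣ Nat.card ↥(chevG2.group F))
    (hc : Cfsg.Agent.H129.CycT.CycAt ↥(chevG2.group F) p) (T : Tor ↥(chevG2.group F) (Nat.card F) m
      (ev m (Nat.card F : ℕ)).natAbs) (hod : od (Nat.card F) p = m)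
    (hm : ¬ (r : ℤ) ∣ ev m (Nat.card F : ℕ)) : Row p ↥(chevG2.group F) := by
  have hD : InList chevG2 := by simp
  refine row_of_hasDZ ?_ hd fun h2 => exists_sq_of_cycAt hc h2
  obtain ⟨T', h1, h2, h3⟩ := hc
  have hpq : ¬ p ∣ Fintype.card F := by
    obtain ⟨f, -, hF⟩ := FiniteField.card F r
    rw [hF]
    intro h
    exact hpr ((Nat.prime_dvd_prime_iff_eq hp.out hr.out).1 (hp.out.dvd_of_dvd_pow h))
  have e : Fintype.card F ^ 2 - 1 = (Fintype.card F + 1) * (Fintype.card F - 1) := by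
    have := Nat.sq_sub_sq (Fintype.card F) 1
    simpa using this
  refine H934.Two.RootDZ.hasDZ_of_torus hD r (q := Fintype.card F) rfl h1 h2 h3 ?_ (by omega) hpq ?_ ?_
  · intro h
    obtain ⟨⟨y, hy⟩, hyp⟩ := exists_prime_orderOf_dvd_card' (G := ↥T') p h2
    rw [Subgroup.orderOf_mk] at hyp
    have h4 : T' ≤ Subgroup.centralizer {y} := Cfsg.Agent.H129.CycT.le_centralizer_of_cyclic h1 hy
    have h5 := Subgroup.card_dvd_of_le h4
    rw [T.ct p hp.out hod y hyp] at h5
    exact hm (Int.natCast_dvd.2 (h.trans h5))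
  · intro h
    exact hp2 (e ▸ h.mul_left _)
  · intro h
    exact hp2 (e ▸ h.mul_right _)

/-- **The row `G₂(q)`.** -/
theorem row_g2' (h3 : 3 ≤ Fintype.card F) {r : ℕ} [hr : Fact r.Prime] [CharP F r] {p : ℕ} [hp : Fact p.Prime]
    (hp5 : 5 ≤ p) (hpr : p ≠ r) (hk : Kill ↥(chevG2.group F) r) (hd : p ∣ Nat.card ↥(chevG2.group F)) :
    Row p ↥(chevG2.group F) := by
  by_cases hp2 : p ∣ Fintype.card F ^ 2 - 1
  · exact Or.inr (Or.inr (twoVan_g2 h3 hp5 hk hp2))
  have hq1 : 1 ≤ Nat.card F := Nat.card_pos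
  have hrq : (r : ℤ) ∣ (Nat.card F : ℤ) := by
    rw [Nat.card_eq_fintype_card, Int.natCast_dvd_natCast, ← CharP.cast_eq_zero_iff F r]
    exact FiniteField.cast_card_eq_zero F
  have hr1 : ¬ (r : ℤ) ∣ 1 := fun h => hr.out.one_lt.ne' (Nat.dvd_one.1 (by exact_mod_cast h))
  rcases od_G2 hp.out hd with h | h | h | h | h
  · exfalso
    obtain ⟨f, -, hF⟩ := FiniteField.card F r
    rw [Nat.card_eq_fintype_card, hF] at h
    exact hpr ((Nat.prime_dvd_prime_iff_eq hp.out hr.out).1 (hp.out.dvd_of_dvd_pow h))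
  · exfalso
    refine hp2 ?_
    rw [← Nat.card_eq_fintype_card]
    exact dvd_of_od_dvd hq1 (by rw [h]; norm_num)
  · exfalso
    refine hp2 ?_
    rw [← Nat.card_eq_fintype_card]
    exact dvd_of_od_dvd hq1 (by rw [h])
  · have hT := tor_G2_3 F
    have hdv := hT.dv p hp.out h
    refine row_tor hp5 r hpr hp2 hd (Cfsg.Agent.H129.CycT.at_G2_3 (q := Nat.card F)
      (N := (ev 3 (Nat.card F : ℕ)).natAbs) Nat.card_eq_fintype_card.symm ?_ hp.out hdv (by omega)) hT h ?_
    · rw [ev3, Int.natAbs_of_nonneg (by positivity)]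
      ring
    · rw [ev3]
      intro h5
      apply hr1
      have h6 : (1 : ℤ) = ((Nat.card F : ℤ) ^ 2 + (Nat.card F : ℤ) + 1) - (Nat.card F : ℤ) * ((Nat.card F : ℤ) + 1) := by
        ring
      rw [h6]
      exact dvd_sub h5 (hrq.mul_right _)
  · have hT := tor_G2_6 F
    have hdv := hT.dv p hp.out h
    refine row_tor hp5 r hpr hp2 hd (Cfsg.Agent.H129.CycT.at_G2_6 (q := Nat.card F)
      (N := (ev 6 (Nat.card F : ℕ)).natAbs) Nat.card_eq_fintype_card.symm ?_ hp.out hdv (by omega)) hT h ?_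
    · have h7 : (0 : ℤ) ≤ (Nat.card F : ℤ) ^ 2 - (Nat.card F : ℤ) + 1 := by nlinarith
      rw [ev6, Int.natAbs_of_nonneg h7]
      ring
    · rw [ev6]
      intro h5
      apply hr1
      have h6 : (1 : ℤ) = ((Nat.card F : ℤ) ^ 2 - (Nat.card F : ℤ) + 1) - (Nat.card F : ℤ) * ((Nat.card F : ℤ) - 1) := by
        ring
      rw [h6]
      exact dvd_sub h5 (hrq.mul_right _)

end Cfsg.Agent.H473.Van
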