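import Cfsg.Agent.H720.PV.Tools
import Cfsg.Agent.H129.CycRow
import Cfsg.Agent.H92.ExcSL2
import Cfsg.Agent.H710.LtwoSL2

/-!
# Tools for the rows `G₂(q)`, `³D₄(q)` of S4987 (helper473)

* `row_of_kill` : cyclic Sylow `p`-subgroups and a character of `p`-defect zero;
* `twoVan_of_sl2` : `SL₂(F)` commuting with an element of order `r`.
-/

set_option autoImplicit false

namespace Cfsg.Agent.H473.Van

open Cfsg Cfsg.Agent.H620 Cfsg.Agent.H387.VO Cfsg.Agent.H720.PV

universe u

/-- an element of order `p ^ 2` and a character of `p`-defect zero -/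
theorem row_of_hasDZ {K : Type*} [Group K] [Finite K] {p : ℕ} [hp : Fact p.Prime] (hz : H665.NoPQ.HasDZ p K)
    (hd : p ∣ Nat.card K) (h2 : p ^ 2 ∣ Nat.card K → ∃ x : K, p ^ 2 ∣ orderOf x) : Row p K := by
  by_cases h : p ^ 2 ∣ Nat.card K
  · obtain ⟨x, hx⟩ := h2 h
    refine Or.inr (Or.inr (twoVan_of_hasDZ_orderOf hz (x := x) (Dvd.dvd.trans (dvd_pow_self p (by norm_num)) hx) ?_))
    intro e
    rw [e, pow_two] at hx
    have h3 := Nat.le_of_dvd hp.out.pos hx
    have h4 := hp.out.two_le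
    nlinarith
  · left
    have h3 := (hp.out.dvd_iff_one_le_factorization Nat.card_pos.ne').1 hd
    have h4 : ¬ 2 ≤ (Nat.card K).factorization p := fun h5 =>
      h ((hp.out.pow_dvd_iff_le_factorization Nat.card_pos.ne').2 h5)
    omega

open Cfsg.Agent.ChevalleyStructure.SL2Hom

/-- `SL₂(F)` commutes with an element of order `r = char F`. -/
theorem twoVan_of_sl2 {S : Type*} [Group S] {F : Type*} [Field F] [Fintype F] {p r : ℕ} (hp : p.Prime)
    [hr : Fact r.Prime] [CharP F r] (hk : Kill S r)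
    (φ : Matrix.SpecialLinearGroup (Fin 2) F →* S) (hφ : Function.Injective φ) {u : S} (hu : orderOf u = r)
    (hc : ∀ g, Commute (φ g) u) {n : ℕ} (hn : n = Fintype.card F - 1 ∨ n = Fintype.card F + 1) (hpn : p ∣ n)
    (hne : n ≠ p) : TwoVan p S := by
  have h2 : 2 ≤ Fintype.card F := Fintype.one_lt_card
  have hrF : r ∣ Fintype.card F := by
    rw [← CharP.cast_eq_zero_iff F r]
    exact FiniteField.cast_card_eq_zero F
  obtain ⟨s, hs⟩ : ∃ s : Matrix.SpecialLinearGroup (Fin 2) F, orderOf s = n := by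
    rcases hn with rfl | rfl
    · exact H710.SLTwo.exists_order_sub_one F
    · exact H710.SLTwo.exists_order_add_one F
  have hn0 : 0 < n := by omega
  have hcop : Nat.Coprime n r := by
    rw [Nat.coprime_comm, hr.out.coprime_iff_not_dvd]
    intro h
    have h1 : r ∣ 1 := by
      rcases hn with rfl | rfl
      · have := Nat.dvd_sub hrF h
        have e : Fintype.card F - (Fintype.card F - 1) = 1 := by omega
        rwa [e] at this
      · have := Nat.dvd_sub h hrF
        have e : Fintype.card F + 1 - Fintype.card F = 1 := by omega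
        rwa [e] at this
    exact hr.out.one_lt.ne' (Nat.dvd_one.1 h1)
  have e1 : orderOf (φ s * u) = n * r := by
    have h1 : orderOf (φ s) = n := by rw [orderOf_injective φ hφ, hs]
    rw [(hc s).orderOf_mul_eq_mul_orderOf_of_coprime (by rw [h1, hu]; exact hcop), h1, hu]
  have e2 : orderOf (φ (s ^ (n / p)) * u) = p * r := by
    have h1 : orderOf (φ (s ^ (n / p))) = p := by
      rw [orderOf_injective φ hφ, orderOf_pow_of_dvd (Nat.div_pos (Nat.le_of_dvd hn0 hpn) hp.pos).ne'
        (by rw [hs]; exact Nat.div_dvd_of_dvd hpn), hs, Nat.div_div_self hpn hn0.ne']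
    rw [(hc _).orderOf_mul_eq_mul_orderOf_of_coprime (by
      rw [h1, hu]
      exact Nat.Coprime.coprime_dvd_left hpn hcop), h1, hu]
  refine twoVan_of_kill hk (x := φ s * u) (y := φ (s ^ (n / p)) * u) ?_ ?_ ?_ ?_ ?_
  · rw [e1]; exact hpn.mul_right _
  · rw [e1]; exact dvd_mul_left _ _
  · rw [e2]; exact dvd_mul_right _ _
  · rw [e2]; exact dvd_mul_left _ _
  · rw [e1, e2]
    intro h
    exact hne (Nat.eq_of_mul_eq_mul_right hr.out.pos h)

/-- centralizers of elements of order `p` are cyclic: the elements of order `p ^ 2` -/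
theorem exists_sq_of_cycAt {K : Type*} [Group K] [Finite K] {p : ℕ} [hp : Fact p.Prime]
    (h : Cfsg.Agent.H129.CycT.CycAt K p) (h2 : p ^ 2 ∣ Nat.card K) : ∃ x : K, p ^ 2 ∣ orderOf x := by
  obtain ⟨P⟩ : Nonempty (Sylow p K) := inferInstance
  have hP : p ^ 2 ∣ Nat.card (P : Subgroup K) := by
    rw [P.card_eq_multiplicity]
    exact pow_dvd_pow p ((hp.out.pow_dvd_iff_le_factorization Nat.card_pos.ne').1 h2)
  have hnt : Nontrivial ↥(P : Subgroup K) := by
    rw [← Finite.one_lt_card_iff_nontrivial]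
    have := Nat.le_of_dvd Nat.card_pos hP
    have h3 := hp.out.two_le
    nlinarith
  have hZ : Nontrivial ↥(Subgroup.center ↥(P : Subgroup K)) := P.2.center_nontrivial
  have hZp : IsPGroup p ↥(Subgroup.center ↥(P : Subgroup K)) := P.2.to_subgroup _
  obtain ⟨z, hz⟩ : ∃ z : ↥(Subgroup.center ↥(P : Subgroup K)), orderOf z = p := by
    refine exists_prime_orderOf_dvd_card' p ?_
    obtain ⟨n, hn0, hn⟩ := (hZp.nontrivial_iff_card).1 hZ
    rw [hn]
    exact dvd_pow_self p hn0.ne'
  have hzr : orderOf ((z : ↥(P : Subgroup K)) : K) = p := by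
    rw [Subgroup.orderOf_coe, Subgroup.orderOf_coe, hz]
  have hzc : (P : Subgroup K) ≤ Subgroup.centralizer {((z : ↥(P : Subgroup K)) : K)} := by
    intro x hx
    rw [Subgroup.mem_centralizer_singleton_iff]
    exact congrArg Subtype.val (Subgroup.mem_center_iff.1 z.2 ⟨x, hx⟩)
  have hcyc := Cfsg.Agent.H129.CycT.CycAt.isCyclic hp.out h hzr
  have hPc : IsCyclic ↥(P : Subgroup K) :=
    isCyclic_of_injective (Subgroup.inclusion hzc) (Subgroup.inclusion_injective hzc)
  obtain ⟨g, hg⟩ := IsCyclic.exists_generator (α := ↥(P : Subgroup K))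
  exact ⟨g, by rw [Subgroup.orderOf_coe, orderOf_eq_card_of_forall_mem_zpowers hg]; exact hP⟩

end Cfsg.Agent.H473.Van
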